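import Cfsg.Agent.Suzuki.Aut
import Cfsg.Agent.Suzuki.Subfield

/-!
# An automorphism of order three of a Suzuki group with soluble fixed points
-/

set_option autoImplicit false
set_option linter.unusedSectionVars false
set_option linter.style.haveILetI false

namespace Cfsg.Agent.H50.ThreePrime

open Subgroup

variable {F : Type} [Field F] [Fintype F] (m : ℕ) [Suzuki.SzField F m]

/-- The fixed points of an automorphism. -/
def fixOf {X : Type*} [Group X] (α : MulAut X) : Subgroup X :=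
  α.toMonoidHom.eqLocus (MonoidHom.id X)

theorem mem_fixOf {X : Type*} [Group X] {α : MulAut X} {x : X} : x ∈ fixOf α ↔ α x = x :=
  Iff.rfl

theorem not_solvable_sz {F₀ : Type} [Field F₀] [Fintype F₀] (k : ℕ) [Suzuki.SzField F₀ k] :
    ¬ Group.IsSolvable (Cfsg.Sz F₀ k) := by
  haveI := Suzuki.nontrivial_Sz (F := F₀) k
  haveI : Group.IsPerfect (Cfsg.Sz F₀ k) := ⟨Suzuki.commutator_eq_top k⟩
  exact Group.IsPerfect.not_isSolvable _

/-- A field automorphism of order three with soluble fixed points leaves `q = 8`. -/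
theorem field_case {φ : F ≃+* F} (hφ : orderOf φ = 3)
    (hsol : Group.IsSolvable ↥(fixOf (Suzuki.fieldAut m φ))) : m = 1 := by
  classical
  haveI : Fact (Nat.Prime 2) := ⟨Nat.prime_two⟩
  haveI : CharP F 2 := Suzuki.charTwo m
  haveI : Finite (F ≃+* F) := Finite.of_injective _ DFunLike.coe_injective
  let Γ := zpowers φ
  letI : Fintype Γ := Fintype.ofFinite Γ
  let F₀ := FixedPoints.subfield Γ F
  letI : Fintype F₀ := Fintype.ofFinite F₀
  have hfin : Module.finrank F₀ F = 3 := by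
    rw [FixedPoints.finrank_eq_card, ← Nat.card_eq_fintype_card, Nat.card_zpowers, hφ]
  have hcard : Fintype.card F = Fintype.card F₀ ^ 3 := by
    rw [← hfin]; exact Module.card_eq_pow_finrank
  haveI : CharP F₀ 2 := RingHom.charP F₀.subtype (RingHom.injective _) 2
  obtain ⟨⟨e, he0⟩, -, he⟩ := FiniteField.card F₀ 2
  change Fintype.card F₀ = 2 ^ e at he
  have he3 : 2 * m + 1 = 3 * e := by
    have h1 : (2 : ℕ) ^ (2 * m + 1) = 2 ^ (3 * e) := by
      rw [← Suzuki.SzField.card_eq (F := F) (m := m), hcard, he, ← pow_mul, mul_comm]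
    exact Nat.pow_right_injective (le_refl 2) h1
  obtain ⟨k, rfl⟩ : ∃ k, e = 2 * k + 1 := ⟨e / 2, by omega⟩
  rcases Nat.eq_zero_or_pos k with rfl | hk
  · omega
  exfalso
  haveI : Suzuki.SzField F₀ k := ⟨he, hk⟩
  have hdiv : 2 * k + 1 ∣ 2 * m + 1 := ⟨3, by omega⟩
  refine not_solvable_sz (F₀ := F₀) k ?_
  have hrange : ∀ g, Suzuki.subHom m k hdiv F₀.subtype g ∈ fixOf (Suzuki.fieldAut m φ) := by
    intro g
    refine mem_fixOf.2 (Subtype.ext (Subtype.ext ?_))
    ext i j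
    exact (((g : Matrix.SpecialLinearGroup (Fin 4) F₀) i j).2 ⟨φ, mem_zpowers φ⟩ :)
  exact Group.isSolvable_of_isSolvable_injective
    (f := (Suzuki.subHom m k hdiv F₀.subtype).codRestrict _ hrange)
    fun a b e => Suzuki.subHom_injective m k hdiv F₀.subtype (congrArg Subtype.val e)

theorem conj_normalises {X : Type*} [Group X] (ψ : MulAut X) (g : X) :
    ψ * MulAut.conj g * ψ⁻¹ = MulAut.conj (ψ g) := by
  ext x
  simp [MulAut.mul_apply]

theorem sz_case {α : MulAut (Cfsg.Sz F m)} (h3 : orderOf α = 3)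
    (hsol : Group.IsSolvable ↥(fixOf α)) : m = 1 := by
  classical
  haveI : Fact (Nat.Prime 3) := ⟨Nat.prime_three⟩
  let I := (MulAut.conj : Cfsg.Sz F m →* MulAut (Cfsg.Sz F m)).range
  haveI : I.Normal := ⟨by rintro _ ⟨g, rfl⟩ ψ; exact ⟨ψ g, (conj_normalises ψ g).symm⟩⟩
  have hI3 : ¬ 3 ∣ Nat.card I := fun hd =>
    Suzuki.three_not_dvd_card (F := F) m (hd.trans (card_range_dvd _))
  obtain ⟨φ, k, hαk⟩ := Suzuki.aut_decomp m α
  set ψ := Suzuki.fieldAut m φ
  have hψI : ∀ n : ℕ, ψ ^ n ∈ I → φ ^ n = 1 := by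
    rintro n ⟨g, hg⟩
    rw [← map_pow] at hg
    exact Suzuki.fieldAut_eq_conj m hg.symm
  have hmk : ∀ n : ℕ, (QuotientGroup.mk (α ^ n) : MulAut (Cfsg.Sz F m) ⧸ I) = QuotientGroup.mk (ψ ^ n) := by
    intro n
    rw [QuotientGroup.mk_pow, QuotientGroup.mk_pow, hαk]
    congr 1
    rw [QuotientGroup.eq, mul_inv_rev, mul_assoc]
    have h1 := ‹I.Normal›.conj_mem _ (inv_mem (⟨k, rfl⟩ : MulAut.conj k ∈ I)) ψ⁻¹
    rwa [inv_inv, mul_assoc] at h1
  have hφ : orderOf φ = 3 := by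
    refine orderOf_eq_prime ?_ fun h1 => ?_
    · refine hψI 3 ((QuotientGroup.eq_one_iff _).1 ?_)
      rw [← hmk, show α ^ 3 = 1 by rw [← h3, pow_orderOf_eq_one], QuotientGroup.mk_one]
    · refine hI3 (h3 ▸ ?_)
      have hαI : α ∈ I := (QuotientGroup.eq_one_iff α).1 (by
        have := hmk 1
        rw [pow_one, pow_one] at this
        rw [this, show ψ = 1 by rw [show ψ = Suzuki.fieldAut m φ from rfl, h1, map_one],
          QuotientGroup.mk_one])
      exact (orderOf_mk α hαI) ▸ orderOf_dvd_natCard (⟨α, hαI⟩ : I)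
  have hψ : orderOf ψ = 3 := by
    refine orderOf_eq_prime (by rw [← map_pow, ← hφ, pow_orderOf_eq_one, map_one]) fun h1 => ?_
    have := hψI 1 (by rw [pow_one, h1]; exact one_mem I)
    rw [pow_one] at this
    rw [this, orderOf_one] at hφ
    omega
  -- both generate Sylow `3`-subgroups of `Inn·⟨ψ⟩`
  let J := zpowers ψ ⊔ I
  have hψJ : ψ ∈ J := mem_sup_left (mem_zpowers ψ)
  have hαJ : α ∈ J := hαk ▸ mul_mem (mem_sup_right ⟨k, rfl⟩) hψJ
  have hJ : Nat.card J ∣ 3 * Nat.card I := by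
    have hd : I.relIndex (zpowers ψ) ∣ 3 := hψ ▸ Nat.card_zpowers ψ ▸ Subgroup.relIndex_dvd_card I _
    rw [← Subgroup.relIndex_sup_right (H := zpowers ψ) (K := I)] at hd
    have h1 := (I.subgroupOf J).card_mul_index
    rw [Nat.card_congr (subgroupOfEquivOfLe le_sup_right).toEquiv] at h1
    rw [← h1, mul_comm 3]
    exact Nat.mul_dvd_mul_left _ hd
  have hsyl : ∀ β : MulAut (Cfsg.Sz F m), orderOf β = 3 → (hb : β ∈ J) →
      ∃ P : Sylow 3 J, (P : Subgroup J) = zpowers (⟨β, hb⟩ : J) := by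
    intro β hβ hb
    have hc : Nat.card (zpowers (⟨β, hb⟩ : J)) = 3 := by rw [Nat.card_zpowers, orderOf_mk, hβ]
    have hp : IsPGroup 3 (zpowers (⟨β, hb⟩ : J)) := IsPGroup.of_card (n := 1) (by rw [hc, pow_one])
    refine ⟨hp.toSylow fun hd => hI3 ?_, IsPGroup.toSylow_coe _ _⟩
    have h1 := (zpowers (⟨β, hb⟩ : J)).index_mul_card
    rw [hc] at h1
    have h9 : 3 * 3 ∣ 3 * Nat.card I := ((Nat.mul_dvd_mul_right hd 3).trans h1.dvd).trans hJ
    exact Nat.dvd_of_mul_dvd_mul_left (by norm_num) h9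
  obtain ⟨P, hP⟩ := hsyl ψ hψ hψJ
  obtain ⟨Q, hQ⟩ := hsyl α h3 hαJ
  obtain ⟨j, hj⟩ := MulAction.exists_smul_eq J P Q
  have hjα : (j : MulAut (Cfsg.Sz F m))⁻¹ * α * j ∈ zpowers ψ := by
    have h1 : (⟨α, hαJ⟩ : J) ∈ ((j • P : Sylow 3 J) : Subgroup J) := by
      rw [hj, hQ]; exact mem_zpowers _
    obtain ⟨x, hx, hxα⟩ := h1
    rw [hP] at hx
    obtain ⟨n, rfl⟩ := hx
    refine ⟨n, ?_⟩
    have h2 : (j : MulAut (Cfsg.Sz F m)) * ψ ^ n * (j : MulAut (Cfsg.Sz F m))⁻¹ = α := by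
      simpa using congrArg Subtype.val hxα
    show ψ ^ n = _
    rw [← h2]; group
  obtain ⟨n, hn⟩ := hjα
  refine field_case m hφ ?_
  have hmem : ∀ x : fixOf ψ, (j : MulAut (Cfsg.Sz F m)) x ∈ fixOf α := by
    rintro ⟨x, hx⟩
    refine mem_fixOf.2 ?_
    have e : α = (j : MulAut (Cfsg.Sz F m)) * ψ ^ n * (j : MulAut (Cfsg.Sz F m))⁻¹ := by
      rw [show ψ ^ n = _ from hn]; group
    have hst : ψ ∈ MulAction.stabilizer (MulAut (Cfsg.Sz F m)) x := hx
    have hx' : (ψ ^ n) x = x := zpow_mem hst n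
    rw [e, MulAut.mul_apply, MulAut.mul_apply, MulAut.inv_apply_self, hx']
  exact Group.isSolvable_of_isSolvable_injective
    (f := ((j : MulAut (Cfsg.Sz F m)).toMonoidHom.comp (fixOf ψ).subtype).codRestrict _ hmem)
    fun a b e => Subtype.ext ((j : MulAut (Cfsg.Sz F m)).injective (congrArg Subtype.val e))

end Cfsg.Agent.H50.ThreePrime
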