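import Cfsg.Agent.H50.ThreePrime.Defs
import Cfsg.Agent.H50.ThreePrime.FieldFix
import Cfsg.Agent.H50.SchurRigid
import Cfsg.Agent.Components.PAction
import Cfsg.Agent.Suzuki.Torus

/-!
# A component of order prime to three and an element of order three with soluble centraliser
-/

set_option autoImplicit false
set_option linter.unusedSectionVars false
set_option linter.style.haveILetI false

namespace Cfsg.Agent.H50.ThreePrime

open Subgroup
open scoped commutatorElement

universe u

theorem hom_eq_one {A B : Type u} [Group A] [Group B] (hA : Group.IsPerfect A)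
    (hB : Group.IsSolvable B) (f : A →* B) : f = 1 := by
  obtain ⟨n, hn⟩ := (Group.isSolvable_def B).1 hB
  have htop : ∀ k, derivedSeries A k = ⊤ := by
    intro k
    induction k with
    | zero => rfl
    | succ k ih => rw [derivedSeries_succ, ih, ← commutator_def]; exact hA.commutator_eq_top
  ext a
  have h1 := map_derivedSeries_le_derivedSeries f n
    (mem_map_of_mem f (by rw [htop n]; exact mem_top a))
  rwa [hn, mem_bot] at h1

variable {G : Type u} [Group G] [Finite G]

theorem commute_components {K L : Subgroup G} (hK : Cfsg.IsComponent K) (hL : Cfsg.IsComponent L)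
    (hne : K ≠ L) {a b : G} (ha : a ∈ K) (hb : b ∈ L) : a * b = b * a :=
  (Components.commute_of_commutator_eq_bot (Components.components_commute hK hL hne) ha hb)

theorem normalizes {K : Subgroup G} (hK : Cfsg.IsComponent K) {y : G} (hy : orderOf y = 3)
    (hsol : Group.IsSolvable ↥(centralizer ({y} : Set G))) : y ∈ normalizer (K : Set G) := by
  have hy3 : y * y * y = 1 := by rw [← pow_three', ← hy, pow_orderOf_eq_one]
  rw [mem_normalizer_iff_map_conj_eq]
  by_contra hne
  set L₁ := K.map (MulAut.conj y).toMonoidHom with hL₁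
  set L₂ := L₁.map (MulAut.conj y).toMonoidHom with hL₂
  have hc : L₂.map (MulAut.conj y).toMonoidHom = K := by
    rw [hL₂, hL₁, map_map, map_map]
    conv_rhs => rw [← map_id K]
    congr 1
    ext x
    show y * (y * (y * x * y⁻¹) * y⁻¹) * y⁻¹ = x
    calc _ = (y * y * y) * x * (y * y * y)⁻¹ := by group
      _ = x := by rw [hy3]; group
  have h1 : Cfsg.IsComponent L₁ := Components.component_conj hK y
  have h2 : Cfsg.IsComponent L₂ := Components.component_conj h1 y
  have hinj := map_injective (f := (MulAut.conj y).toMonoidHom) (MulAut.conj y).injective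
  have h12 : L₁ ≠ L₂ := fun e => hne (hinj e.symm)
  have h20 : L₂ ≠ K := fun e => by
    rw [e, ← hL₁] at hc
    exact hne hc
  have c01 : ∀ a ∈ K, ∀ b ∈ L₁, a * b = b * a := fun a ha b hb =>
    commute_components hK h1 (Ne.symm hne) ha hb
  have c02 : ∀ a ∈ K, ∀ b ∈ L₂, a * b = b * a := fun a ha b hb =>
    commute_components hK h2 (Ne.symm h20) ha hb
  have c12 : ∀ a ∈ L₁, ∀ b ∈ L₂, a * b = b * a := fun a ha b hb =>
    commute_components h1 h2 h12 ha hb
  have hm1 : ∀ k : K, y * k * y⁻¹ ∈ L₁ := fun k => ⟨k, k.2, rfl⟩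
  have hm2 : ∀ k : K, y * (y * k * y⁻¹) * y⁻¹ ∈ L₂ := fun k => ⟨_, hm1 k, rfl⟩
  let g : K →* G :=
    { toFun := fun k => (k : G) * (y * k * y⁻¹) * (y * (y * k * y⁻¹) * y⁻¹)
      map_one' := by simp
      map_mul' := fun a b => by
        have e01 := c01 b b.2 _ (hm1 a)
        have e02 := c02 b b.2 _ (hm2 a)
        have e12 := c12 _ (hm1 b) _ (hm2 a)
        simp only [coe_mul]
        calc (a : G) * b * (y * (a * b) * y⁻¹) * (y * (y * (a * b) * y⁻¹) * y⁻¹)
            = a * (b * (y * a * y⁻¹)) * ((y * b * y⁻¹) * (y * (y * a * y⁻¹) * y⁻¹)) *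
                (y * (y * b * y⁻¹) * y⁻¹) := by group
          _ = a * ((y * a * y⁻¹) * b) * ((y * (y * a * y⁻¹) * y⁻¹) * (y * b * y⁻¹)) *
                (y * (y * b * y⁻¹) * y⁻¹) := by rw [e01, e12]
          _ = a * (y * a * y⁻¹) * (b * (y * (y * a * y⁻¹) * y⁻¹)) * (y * b * y⁻¹) *
                (y * (y * b * y⁻¹) * y⁻¹) := by group
          _ = a * (y * a * y⁻¹) * ((y * (y * a * y⁻¹) * y⁻¹) * b) * (y * b * y⁻¹) *
                (y * (y * b * y⁻¹) * y⁻¹) := by rw [e02]
          _ = _ := by group }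
  have hg : ∀ k : K, g k ∈ centralizer ({y} : Set G) := by
    intro k
    have e02 := c02 k k.2 _ (hm2 k)
    have e01 := c01 k k.2 _ (hm1 k)
    refine mem_centralizer_singleton_iff.2 (eq_mul_inv_iff_mul_eq.1 ?_).symm.symm
    show (k : G) * (y * k * y⁻¹) * (y * (y * k * y⁻¹) * y⁻¹) =
      y * ((k : G) * (y * k * y⁻¹) * (y * (y * k * y⁻¹) * y⁻¹)) * y⁻¹
    have e3 : y * (y * (y * (k : G) * y⁻¹) * y⁻¹) * y⁻¹ = k := by
      calc _ = (y * y * y) * k * (y * y * y)⁻¹ := by group
        _ = k := by rw [hy3]; group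
    calc (k : G) * (y * k * y⁻¹) * (y * (y * k * y⁻¹) * y⁻¹)
        = (y * k * y⁻¹) * (k * (y * (y * k * y⁻¹) * y⁻¹)) := by rw [e01]; group
      _ = (y * k * y⁻¹) * ((y * (y * k * y⁻¹) * y⁻¹) * k) := by rw [e02]
      _ = (y * k * y⁻¹) * (y * (y * k * y⁻¹) * y⁻¹) * (y * (y * (y * k * y⁻¹) * y⁻¹) * y⁻¹) := by
          rw [e3]; group
      _ = _ := by group
  have h0 := hom_eq_one hK.2.1 hsol (g.codRestrict _ hg)
  refine Components.qs_center_ne_top hK.2 (eq_top_iff.2 fun a _ => mem_center_iff.2 fun b => ?_)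
  have ea : (a : G) * (y * a * y⁻¹) * (y * (y * a * y⁻¹) * y⁻¹) = 1 :=
    congrArg Subtype.val (DFunLike.congr_fun h0 a)
  have ea' : (a : G) = ((y * a * y⁻¹) * (y * (y * a * y⁻¹) * y⁻¹))⁻¹ :=
    eq_inv_of_mul_eq_one_left (by rw [← mul_assoc]; exact ea)
  have hcomm : Commute (b : G) ((y * a * y⁻¹) * (y * (y * a * y⁻¹) * y⁻¹)) :=
    Commute.mul_right (c01 b b.2 _ (hm1 a)) (c02 b b.2 _ (hm2 a))
  refine Subtype.ext ?_
  show (b : G) * a = a * b
  rw [ea']
  exact hcomm.inv_right.eq

theorem solvable_of_commutator {A : Type u} [Group A] (h : Group.IsSolvable ↥(commutator A)) :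
    Group.IsSolvable A := by
  refine Group.isSolvable_of_ker_le_range (commutator A).subtype (Abelianization.of (G := A)) ?_
  rw [Abelianization.ker_of, range_subtype]

/-- Transfer: a perfect group with a cyclic Sylow `p`-subgroup modulo the centre has a `p'`-centre. -/
theorem not_dvd_center_of_cyclic {A : Type u} [Group A] [Finite A] (hA : Group.IsPerfect A) {p : ℕ}
    [hp : Fact p.Prime] (S : Sylow p (A ⧸ center A)) (hS : IsCyclic (S : Subgroup (A ⧸ center A))) :
    ¬ p ∣ Nat.card (center A) := by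
  intro hpd
  have hker : (QuotientGroup.mk' (center A)).ker = center A := QuotientGroup.ker_mk' _
  have hstem : Cfsg.IsStemExtension (QuotientGroup.mk' (center A)) :=
    ⟨QuotientGroup.mk'_surjective _, hker.le, by rw [hA.commutator_eq_top]; exact le_top⟩
  obtain ⟨z, hz⟩ := exists_prime_orderOf_dvd_card' (G := ↥(center A)) p hpd
  have hzp : (z : A) ^ p = 1 := by rw [← orderOf_dvd_iff_pow_eq_one, orderOf_coe, hz]
  obtain ⟨hzQ, hzc⟩ := mem_commutator_comap hstem (S : Subgroup (A ⧸ center A))
    (hp.out.coprime_iff_not_dvd.2 S.not_dvd_index) (z : A) (by rw [hker]; exact z.2) hzp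
  let R := (S : Subgroup (A ⧸ center A)).comap (QuotientGroup.mk' (center A))
  let ρ : R →* (S : Subgroup (A ⧸ center A)) :=
    ((QuotientGroup.mk' (center A)).comp R.subtype).codRestrict _ fun r => r.2
  have hρ : ρ.ker ≤ center R := fun r hr => mem_center_iff.2 fun s => by
    have h1 : (r : A) ∈ center A := by rw [← hker]; exact congrArg Subtype.val hr
    exact Subtype.ext (mem_center_iff.1 h1 (s : A))
  haveI := hS
  have hab := commutative_of_cyclic_center_quotient ρ hρ
  have h1 : commutator ↥R = ⊥ := by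
    rw [commutator_eq_bot_iff_center_eq_top]
    exact eq_top_iff.2 fun a _ => mem_center_iff.2 fun b => hab b a
  have h2 : (⟨z, hzQ⟩ : R) ∈ commutator ↥R := hzc
  rw [h1, mem_bot] at h2
  have h3 : (z : A) = 1 := congrArg Subtype.val h2
  rw [← orderOf_coe, h3, orderOf_one] at hz
  exact hp.out.ne_one hz.symm

theorem result_of_list (hS : SuzukiList.{u}) {K : Subgroup G} (hK : Cfsg.IsComponent K)
    (h3 : ¬ 3 ∣ Nat.card ↥K) {y : G} (hy : orderOf y = 3)
    (hsol : Group.IsSolvable ↥(centralizer ({y} : Set G))) :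
    (∃ (F : Type) (_ : Field F) (_ : Fintype F), Fintype.card F = 8 ∧
      Nonempty (↥K ⧸ center ↥K ≃* ↥(Cfsg.Lie.Sz F 4))) ∧
      y ∈ normalizer (K : Set G) ∧ (Cfsg.pCore 2 G = ⊥ → IsSimpleGroup ↥K) := by
  classical
  have hN := normalizes hK hy hsol
  haveI hperf : Group.IsPerfect ↥K := hK.2.1
  haveI hsimple : IsSimpleGroup (↥K ⧸ center ↥K) := hK.2.2
  have h3Q : ¬ 3 ∣ Nat.card (↥K ⧸ center ↥K) := fun hd => h3 (hd.trans (card_quotient_dvd_card _))
  have hQ := hS _ hsimple (Components.qs_quotient_not_comm hK.2) h3Q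
  obtain ⟨F, _, _, m, hm, hF, ⟨e₀⟩⟩ := hQ
  haveI : Suzuki.SzField F m := ⟨hF, hm⟩
  let e : ↥K ⧸ center ↥K ≃* Cfsg.Sz F m := e₀.trans (Suzuki.lieEquiv m).symm
  -- the automorphism induced by `y`
  let α : MulAut ↥K := K.normalizerMonoidHom ⟨y, hN⟩
  have hαv : ∀ k : K, ((α k : K) : G) = y * k * y⁻¹ := fun k => rfl
  let β : MulAut (↥K ⧸ center ↥K) := QuotientGroup.congr (center ↥K) (center ↥K) α
    (characteristic_iff_map_eq.1 inferInstance α)
  have hβ : ∀ k : K, β (QuotientGroup.mk k) = QuotientGroup.mk (α k) := fun k => rfl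
  let γ : MulAut (Cfsg.Sz F m) := MulAut.congr e β
  have hγ : ∀ q, γ (e q) = e (β q) := fun q => by simp [γ]
  have hβ3 : ∀ q, β (β (β q)) = q := by
    intro q
    obtain ⟨k, rfl⟩ := QuotientGroup.mk_surjective q
    rw [hβ, hβ, hβ]
    congr 1
    refine Subtype.ext ?_
    have hy3 : y * y * y = 1 := by rw [← pow_three', ← hy, pow_orderOf_eq_one]
    rw [hαv, hαv, hαv]
    calc _ = (y * y * y) * k * (y * y * y)⁻¹ := by group
      _ = k := by rw [hy3]; group
  -- the automorphism is not trivial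
  have hne : ∃ q, β q ≠ q := by
    by_contra hall
    push Not at hall
    have hz : ∀ k : K, α k * k⁻¹ ∈ center ↥K := fun k => by
      have h1 := hall (QuotientGroup.mk k)
      rw [hβ, QuotientGroup.eq] at h1
      have h2 := (inferInstance : (center ↥K).Normal).conj_mem _ (inv_mem h1) k
      convert h2 using 1
      group
    let d : K →* center ↥K :=
      { toFun := fun k => ⟨α k * k⁻¹, hz k⟩
        map_one' := by simp
        map_mul' := fun a b => Subtype.ext (by
          show α (a * b) * (a * b)⁻¹ = α a * a⁻¹ * (α b * b⁻¹)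
          have hb := mem_center_iff.1 (hz b) a⁻¹
          rw [map_mul, mul_inv_rev, mul_assoc (α a) a⁻¹, hb]
          group) }
    have hd := hom_eq_one hperf
      (Group.isSolvable_of_comm fun a b => Subtype.ext (mem_center_iff.1 b.2 (a : K))) d
    have hKC : ∀ k : K, (k : G) ∈ centralizer ({y} : Set G) := fun k => by
      have h1 : α k * k⁻¹ = 1 := congrArg Subtype.val (DFunLike.congr_fun hd k)
      have h2 := congrArg Subtype.val (mul_inv_eq_one.1 h1)
      rw [hαv] at h2
      exact mem_centralizer_singleton_iff.2 (mul_inv_eq_iff_eq_mul.1 h2).symm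
    have h0 := hom_eq_one hperf hsol (K.subtype.codRestrict _ hKC)
    refine Components.qs_not_isSolvable hK.2 (Group.isSolvable_of_comm fun a b => ?_)
    have h1 : ∀ x : K, x = 1 := fun x => by
      have h2 := congrArg Subtype.val (DFunLike.congr_fun h0 x)
      exact Subtype.ext h2
    rw [h1 a, h1 b]
  have hγ3 : orderOf γ = 3 := by
    haveI : Fact (Nat.Prime 3) := ⟨Nat.prime_three⟩
    refine orderOf_eq_prime (MulEquiv.ext fun x => ?_) fun h1 => ?_
    · obtain ⟨q, rfl⟩ := e.surjective x
      show γ (γ (γ (e q))) = e q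
      rw [hγ, hγ, hγ, hβ3]
    · obtain ⟨q, hq⟩ := hne
      refine hq (e.injective ?_)
      rw [← hγ, h1, MulAut.one_apply]
  -- its fixed points are soluble
  have hsolfix : Group.IsSolvable ↥(fixOf γ) := by
    let π : ↥K →* Cfsg.Sz F m := e.toMonoidHom.comp (QuotientGroup.mk' (center ↥K))
    let P := (fixOf γ).comap π
    have hP : ∀ p : P, α p * (p : K)⁻¹ ∈ center ↥K := fun p => by
      have h1 : e (β (QuotientGroup.mk (p : K))) = e (QuotientGroup.mk (p : K)) :=
        (hγ _).symm.trans p.2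
      have h2 := e.injective h1
      rw [hβ, QuotientGroup.eq] at h2
      have h3 := (inferInstance : (center ↥K).Normal).conj_mem _ (inv_mem h2) (p : K)
      convert h3 using 1
      group
    have hPc : ∀ c ∈ commutator ↥P, ((c : K) : G) ∈ centralizer ({y} : Set G) := by
      have hle : commutator ↥P ≤
          (α.toMonoidHom.eqLocus (MonoidHom.id ↥K)).comap P.subtype := by
        rw [commutator_eq_closure, closure_le]
        rintro _ ⟨a, b, rfl⟩
        show α ((⁅a, b⁆ : P) : K) = ((⁅a, b⁆ : P) : K)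
        obtain ⟨z, hz, ea⟩ : ∃ z ∈ center ↥K, α a = z * (a : K) := ⟨_, hP a, by group⟩
        obtain ⟨w, hw, eb⟩ : ∃ w ∈ center ↥K, α b = w * (b : K) := ⟨_, hP b, by group⟩
        rw [show ((⁅a, b⁆ : P) : K) = (a : K) * b * (a : K)⁻¹ * (b : K)⁻¹ from rfl, map_mul, map_mul,
          map_mul, map_inv, map_inv, ea, eb]
        have hz' := fun x => mem_center_iff.1 hz x
        have hw' := fun x => mem_center_iff.1 hw x
        have hzi := fun x => mem_center_iff.1 (inv_mem hz) x
        have hwi := fun x => mem_center_iff.1 (inv_mem hw) x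
        calc z * (a : K) * (w * b) * (z * a)⁻¹ * (w * b)⁻¹
            = z * ((a : K) * w) * b * (a : K)⁻¹ * (z⁻¹ * (b : K)⁻¹) * w⁻¹ := by group
          _ = z * (w * (a : K)) * b * (a : K)⁻¹ * ((b : K)⁻¹ * z⁻¹) * w⁻¹ := by rw [hw', hzi]
          _ = (z * w) * ((a : K) * b * (a : K)⁻¹ * (b : K)⁻¹) * (z⁻¹ * w⁻¹) := by group
          _ = (a : K) * b * (a : K)⁻¹ * (b : K)⁻¹ * (z * w) * (z⁻¹ * w⁻¹) := by
              rw [mem_center_iff.1 (mul_mem hz hw)]
          _ = _ := by rw [← hz' w]; group
      intro c hc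
      have h1 : α (c : K) = (c : K) := hle hc
      have h2 := congrArg Subtype.val h1
      rw [hαv] at h2
      exact mem_centralizer_singleton_iff.2 (mul_inv_eq_iff_eq_mul.1 h2).symm
    have hPsol : Group.IsSolvable ↥P := by
      refine solvable_of_commutator (Group.isSolvable_of_isSolvable_injective
        (f := (((K.subtype).comp P.subtype).comp (commutator ↥P).subtype).codRestrict
          (centralizer ({y} : Set G)) fun c => hPc c c.2) fun a b h => ?_)
      have h' := congrArg Subtype.val h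
      exact Subtype.ext (Subtype.ext (Subtype.ext h'))
    have hπ : Function.Surjective π := e.surjective.comp (QuotientGroup.mk'_surjective _)
    refine Group.isSolvable_of_surjective (f := ((π.comp P.subtype).codRestrict (fixOf γ) fun p => p.2)) ?_
    rintro ⟨x, hx⟩
    obtain ⟨k, rfl⟩ := hπ x
    exact ⟨⟨k, hx⟩, rfl⟩
  have hm1 := sz_case m hγ3 hsolfix
  subst hm1
  refine ⟨⟨F, inferInstance, inferInstance, by rw [hF]; norm_num, ?_⟩, hN, fun hO => ?_⟩
  · exact ⟨e₀⟩
  -- no centre
  have hcenter : center ↥K = ⊥ := by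
    by_contra hne
    obtain ⟨p, hp, hpd⟩ := Nat.exists_prime_and_dvd (mt (eq_bot_of_card_eq (center ↥K)) hne)
    haveI : Fact p.Prime := ⟨hp⟩
    rcases eq_or_ne p 2 with rfl | hp2
    · have hbot := Components.pCore_subnormal_eq_bot hK.1 hO
      obtain ⟨P⟩ : Nonempty (Sylow 2 ↥(center ↥K)) := inferInstance
      refine P.ne_bot_of_dvd_card hpd ?_
      rw [← map_eq_bot_iff_of_injective _ (center ↥K).subtype_injective, ← le_bot_iff, ← hbot]
      refine le_sSup ⟨?_, P.isPGroup'.map _⟩
      haveI : (P : Subgroup ↥(center ↥K)).Normal := inferInstance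
      haveI := P.characteristic_of_normal ‹_›
      exact ConjAct.normal_of_characteristic_of_normal
    · obtain ⟨S⟩ : Nonempty (Sylow p (↥K ⧸ center ↥K)) := inferInstance
      refine not_dvd_center_of_cyclic (A := ↥K) hperf S ?_ hpd
      haveI := Suzuki.sylow_odd_cyclic (F := F) 1 hp2 (S.mapSurjective (f := e.toMonoidHom) e.surjective)
      haveI : IsCyclic ((S : Subgroup (↥K ⧸ center ↥K)).map e.toMonoidHom) := this
      exact isCyclic_of_surjective
        ((S : Subgroup (↥K ⧸ center ↥K)).equivMapOfInjective e.toMonoidHom e.injective).symm.toMonoidHom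
        ((S : Subgroup (↥K ⧸ center ↥K)).equivMapOfInjective e.toMonoidHom e.injective).symm.surjective
  haveI := hsimple
  exact ((QuotientGroup.quotientMulEquivOfEq hcenter).trans QuotientGroup.quotientBot).symm.isSimpleGroup

end Cfsg.Agent.H50.ThreePrime
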