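import Cfsg.Agent.Suzuki.Lie
import Cfsg.Agent.Suzuki.Cover

/-!
# Groups of order prime to three

`SuzukiList` is the list of the finite simple groups of order prime to 3; what is used about the
Suzuki groups here is only that an element of odd order is inverted by an involution.
-/

set_option autoImplicit false

namespace Cfsg.Agent.H50.ThreePrime

open Subgroup

universe u

/-- A finite non-abelian simple group of order prime to 3 is a Suzuki group. -/
def SuzukiList : Prop :=
  ∀ (X : Type u) [Group X] [Finite X], IsSimpleGroup X → ¬ IsMulCommutative X →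
    ¬ 3 ∣ Nat.card X → Cfsg.Lie.IsoSuzuki X

/-- An isomorphism with the stabiliser of the ovoid. -/
theorem exists_equiv_sz {X : Type u} [Group X] (h : Cfsg.Lie.IsoSuzuki X) :
    ∃ (F : Type) (_ : Field F) (_ : Fintype F) (m : ℕ) (_ : Suzuki.SzField F m),
      Nonempty (X ≃* Cfsg.Sz F m) := by
  obtain ⟨F, _, _, m, hm, hF, ⟨e⟩⟩ := h
  haveI : Suzuki.SzField F m := ⟨hF, hm⟩
  exact ⟨F, inferInstance, inferInstance, m, inferInstance, ⟨e.trans (Suzuki.lieEquiv m).symm⟩⟩

theorem exists_inverting {X : Type u} [Group X] (h : Cfsg.Lie.IsoSuzuki X) {g : X}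
    (hg : Odd (orderOf g)) : ∃ t : X, orderOf t = 2 ∧ t * g * t⁻¹ = g⁻¹ := by
  obtain ⟨F, _, _, m, _, ⟨e⟩⟩ := exists_equiv_sz h
  obtain ⟨j, hj, hjg⟩ := Suzuki.exists_involution_inverting m (g := e g) (by rwa [MulEquiv.orderOf_eq])
  refine ⟨e.symm j, by rw [MulEquiv.orderOf_eq, hj], e.injective ?_⟩
  simp [hjg]

theorem two_dvd_card {X : Type u} [Group X] (h : Cfsg.Lie.IsoSuzuki X) : 2 ∣ Nat.card X := by
  obtain ⟨t, ht, -⟩ := exists_inverting h (g := 1) (by rw [orderOf_one]; exact odd_one)
  exact ht ▸ orderOf_dvd_natCard t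

end Cfsg.Agent.H50.ThreePrime
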