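import Cfsg.Agent.H50.ThreePrime.Defs
import Mathlib.GroupTheory.SchurZassenhaus

/-!
# `π`-homogeneous groups of order prime to three are `π'`-closed
-/

set_option autoImplicit false
set_option linter.unusedSectionVars false
set_option linter.style.haveILetI false

namespace Cfsg.Agent.H50.ThreePrime

open Subgroup
open scoped commutatorElement

universe u

/-- No prime of `π` divides the order. -/
def Free (π : Set ℕ) {G : Type u} [Group G] (x : G) : Prop :=
  ∀ p : ℕ, p.Prime → p ∣ orderOf x → p ∉ π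

/-- The elements whose order avoids `π` centralise the `p`-subgroups they normalise, `p ∈ π`. -/
def LocHom (π : Set ℕ) (G : Type u) [Group G] : Prop :=
  ∀ p ∈ π, ∀ R : Subgroup G, IsPGroup p ↥R → ∀ x ∈ normalizer (R : Set G), Free π x →
    x ∈ centralizer (R : Set G)

section General

variable {π : Set ℕ} {G : Type u} [Group G] [Finite G]

theorem Free.one : Free π (1 : G) := fun p hp h => by
  rw [orderOf_one, Nat.dvd_one] at h; exact absurd h hp.ne_one

theorem Free.map {H : Type u} [Group H] (f : G →* H) {x : G} (hx : Free π x) : Free π (f x) :=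
  fun p hp h => hx p hp (h.trans (orderOf_map_dvd f x))

theorem eq_one_of_free {x : G} {n : ℕ} (hn : x ^ n = 1) (hnπ : ∀ p, p.Prime → p ∣ n → p ∈ π)
    (hx : Free π x) : x = 1 := by
  by_contra h
  obtain ⟨p, hp, hpd⟩ := Nat.exists_prime_and_dvd (mt orderOf_eq_one_iff.1 h)
  exact hx p hp hpd (hnπ p hp (hpd.trans (orderOf_dvd_of_pow_eq_one hn)))

theorem locHom_of_hom (hp : ∀ p ∈ π, p.Prime)
    (hhom : ∀ H : Subgroup G, H ≠ ⊥ → (∀ p : ℕ, p.Prime → p ∣ Nat.card ↥H → p ∈ π) →
      ∀ p : ℕ, p.Prime → p ∣ (centralizer (H : Set G)).relIndex (normalizer (H : Set G)) → p ∈ π) :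
    LocHom π G := by
  intro p hpπ R hR x hx hfree
  haveI : Fact p.Prime := ⟨hp p hpπ⟩
  rcases eq_or_ne R ⊥ with rfl | hR1
  · exact mem_centralizer_iff.2 fun y hy => by rw [mem_bot.1 hy, one_mul, mul_one]
  have hRπ : ∀ q : ℕ, q.Prime → q ∣ Nat.card ↥R → q ∈ π := fun q hq hd => by
    obtain ⟨k, hk⟩ := IsPGroup.iff_card.1 hR
    rw [hk] at hd
    rwa [(Nat.prime_dvd_prime_iff_eq hq (hp p hpπ)).1 (hq.dvd_of_dvd_pow hd)]
  let N := normalizer (R : Set G)
  let C : Subgroup N := (centralizer (R : Set G)).subgroupOf N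
  haveI : C.Normal := by
    refine ⟨fun c hc n => mem_subgroupOf.2 (mem_centralizer_iff.2 fun y hy => ?_)⟩
    have h1 : (n : G)⁻¹ * y * n ∈ R := (mem_normalizer_iff''.1 n.2 y).1 hy
    have h2 := mem_centralizer_iff.1 (mem_subgroupOf.1 hc) _ h1
    simp only [coe_mul, InvMemClass.coe_inv]
    calc y * ((n : G) * c * (n : G)⁻¹) = n * (((n : G)⁻¹ * y * n) * c) * (n : G)⁻¹ := by group
      _ = n * (c * ((n : G)⁻¹ * y * n)) * (n : G)⁻¹ := by rw [h2]
      _ = n * c * (n : G)⁻¹ * y := by group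
  have hfN : Free π (⟨x, hx⟩ : N) := fun q hq hd => hfree q hq (by rwa [← orderOf_coe] at hd)
  have h1 : ((⟨x, hx⟩ : N) : N ⧸ C) = 1 :=
    eq_one_of_free (n := Nat.card (N ⧸ C)) pow_card_eq_one' (hhom R hR1 hRπ)
      (hfN.map (QuotientGroup.mk' C))
  exact mem_subgroupOf.1 ((QuotientGroup.eq_one_iff _).1 h1)

theorem LocHom.subgroup (h : LocHom π G) (H : Subgroup G) : LocHom π ↥H := by
  intro p hp R hR x hx hfree
  have hx' : (x : G) ∈ normalizer ((R.map H.subtype : Subgroup G) : Set G) :=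
    le_normalizer_map H.subtype ⟨x, hx, rfl⟩
  have h1 := h p hp _ (hR.map H.subtype) _ hx'
    (fun q hq hd => hfree q hq (by rwa [orderOf_coe] at hd))
  exact mem_centralizer_iff.2 fun y hy => Subtype.ext (mem_centralizer_iff.1 h1 _ ⟨y, hy, rfl⟩)

/-- Among the preimages in a subgroup, one of least order avoids `π` when the image does. -/
theorem exists_free_preimage {H : Type u} [Group H] (f : G →* H) (M : Subgroup G) {y : H}
    (hy : Free π y) (hex : ∃ n ∈ M, f n = y) : ∃ n ∈ M, f n = y ∧ Free π n := by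
  classical
  have hex' : ∃ k, ∃ n ∈ M, f n = y ∧ orderOf n = k := by
    obtain ⟨n, hn, e⟩ := hex
    exact ⟨_, n, hn, e, rfl⟩
  obtain ⟨n, hn, e, ho⟩ := Nat.find_spec hex'
  refine ⟨n, hn, e, fun p hp hd hpπ => ?_⟩
  obtain ⟨i, m, hm, hmo⟩ := Nat.exists_eq_pow_mul_and_not_dvd (orderOf_pos n).ne' p hp.ne_one
  have hyd : orderOf y ∣ m := by
    have h1 : orderOf y ∣ p ^ i * m := hmo ▸ e ▸ orderOf_map_dvd f n
    refine Nat.Coprime.dvd_of_dvd_mul_left ?_ h1
    exact ((hp.coprime_iff_not_dvd.2 fun h => hy p hp h hpπ).pow_left i).symm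
  obtain ⟨j, hjp, hj1⟩ := Nat.chineseRemainder
    (show (p ^ i).Coprime m from (hp.coprime_iff_not_dvd.2 hm).pow_left i) 0 1
  have hjy : y ^ j = y := by
    conv_rhs => rw [← pow_one y]
    exact pow_eq_pow_iff_modEq.2 (hj1.of_dvd hyd)
  have hle := Nat.find_min' hex' ⟨n ^ j, M.pow_mem hn j, by rw [map_pow, e, hjy], rfl⟩
  have hdm : orderOf (n ^ j) ∣ m := by
    refine orderOf_dvd_of_pow_eq_one ?_
    rw [← pow_mul, ← orderOf_dvd_iff_pow_eq_one, hmo]
    exact Nat.mul_dvd_mul_right (Nat.modEq_zero_iff_dvd.1 hjp) m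
  have hi0 : i ≠ 0 := fun h0 => hm (by rw [hmo, h0, pow_zero, one_mul] at hd; exact hd)
  have hi : 1 < p ^ i := Nat.one_lt_pow hi0 hp.one_lt
  have hm0 : 0 < m := Nat.pos_of_ne_zero fun h0 => hm (h0 ▸ dvd_zero p)
  have h2 := (hle.trans (Nat.le_of_dvd hm0 hdm))
  rw [← ho, hmo] at h2
  exact absurd h2 (not_le.2 (lt_mul_of_one_lt_left hm0 hi))

/-- A quotient inherits the local condition. -/
theorem LocHom.quotient (hp : ∀ p ∈ π, p.Prime) (h : LocHom π G) (N : Subgroup G) [N.Normal] :
    LocHom π (G ⧸ N) := by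
  intro p hpπ R hR y hy hfree
  haveI : Fact p.Prime := ⟨hp p hpπ⟩
  let f := QuotientGroup.mk' N
  have hf : Function.Surjective f := QuotientGroup.mk'_surjective N
  let W := (normalizer (R : Set (G ⧸ N))).comap f
  let Y : Subgroup W := (R.comap f).subgroupOf W
  haveI : Y.Normal := by
    refine ⟨fun c hc n => mem_subgroupOf.2 ?_⟩
    have h1 := (mem_normalizer_iff.1 (show f n ∈ normalizer (R : Set (G ⧸ N)) from n.2) (f c)).1
      (mem_subgroupOf.1 hc)
    simpa [mem_comap] using h1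
  obtain ⟨P⟩ : Nonempty (Sylow p Y) := inferInstance
  have hfr := Sylow.normalizer_sup_eq_top P
  let P' : Subgroup G := ((P : Subgroup Y).map Y.subtype).map W.subtype
  -- the image of the Sylow subgroup is `R`
  let fY : Y →* R := ((f.comp W.subtype).comp Y.subtype).codRestrict R fun c => mem_subgroupOf.1 c.2
  have hfY : Function.Surjective fY := by
    rintro ⟨r, hr⟩
    obtain ⟨g, rfl⟩ := hf r
    exact ⟨⟨⟨g, le_normalizer hr⟩, mem_subgroupOf.2 hr⟩, rfl⟩
  have hPR : (P : Subgroup Y).map fY = ⊤ := by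
    have h1 := (P.mapSurjective hfY).3 (Q := ⊤) (hR.to_subgroup ⊤) le_top
    exact h1.symm
  obtain ⟨g, rfl⟩ := hf y
  have hgW : g ∈ W := hy
  obtain ⟨n₀, hn₀, y₀, hy₀, e⟩ : ∃ n₀ ∈ normalizer ((P'.subgroupOf W : Subgroup W) : Set W),
      ∃ y₀ ∈ Y, n₀ * y₀ = ⟨g, hgW⟩ := by
    have hPW : P'.subgroupOf W = (P : Subgroup Y).map Y.subtype :=
      comap_map_eq_self_of_injective W.subtype_injective _
    rw [hPW]
    refine mem_sup_of_normal_right.1 ?_
    rw [hfr]
    exact mem_top _
  have hyR : f (y₀ : W) ∈ R := mem_subgroupOf.1 hy₀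
  obtain ⟨r, hrP, hr⟩ : ∃ r ∈ P', f r = f (y₀ : W) := by
    obtain ⟨r, hr, er⟩ := (hPR ▸ mem_top (⟨_, hyR⟩ : R) : _ ∈ (P : Subgroup Y).map fY)
    exact ⟨_, ⟨_, ⟨r, hr, rfl⟩, rfl⟩, congrArg Subtype.val er⟩
  have hn₀' : (n₀ : G) ∈ normalizer (P' : Set G) := by
    have h1 := le_normalizer_map W.subtype ⟨n₀, hn₀, rfl⟩
    rwa [map_subgroupOf_eq_of_le (by
      rintro _ ⟨w, -, rfl⟩; exact w.2)] at h1
  obtain ⟨n, hn, hnf, hnfree⟩ := exists_free_preimage f (normalizer (P' : Set G)) hfree
    ⟨(n₀ : G) * r, mul_mem hn₀' (le_normalizer hrP), by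
      rw [map_mul, hr, ← map_mul]; exact congrArg f (congrArg Subtype.val e)⟩
  have hc := h p hpπ P' (((P.isPGroup'.map _).map _)) n hn hnfree
  refine mem_centralizer_iff.2 fun z hz => ?_
  obtain ⟨r', hr', er'⟩ := (hPR ▸ mem_top (⟨z, hz⟩ : R) : _ ∈ (P : Subgroup Y).map fY)
  have h2 := congrArg f (mem_centralizer_iff.1 hc _ ⟨_, ⟨r', hr', rfl⟩, rfl⟩)
  rw [map_mul, map_mul, hnf] at h2
  have : f ((r' : W) : G) = z := congrArg Subtype.val er'
  rwa [← this]

end General

/-- In a Suzuki group the primes of `π` do not divide the order. -/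
theorem free_of_suzuki {π : Set ℕ} (hodd : ∀ p ∈ π, p.Prime ∧ p ≠ 2) {G : Type u} [Group G]
    [Finite G] (h : LocHom π G) (hG : Cfsg.Lie.IsoSuzuki G) (x : G) : Free π x := by
  intro p hp hd hpπ
  haveI : Fact p.Prime := ⟨hp⟩
  obtain ⟨g, hg⟩ := exists_prime_orderOf_dvd_card' (G := G) p (hd.trans (orderOf_dvd_natCard x))
  have hpo : Odd p := hp.odd_of_ne_two (hodd p hpπ).2
  obtain ⟨t, ht, htg⟩ := exists_inverting hG (g := g) (hg ▸ hpo)
  have htN : t ∈ normalizer (zpowers g : Set G) := by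
    refine mem_normalizer_iff_map_conj_eq.2 ?_
    rw [MonoidHom.map_zpowers]
    show zpowers (t * g * t⁻¹) = zpowers g
    rw [htg, zpowers_inv]
  have htF : Free π t := fun q hq hqd hqπ => (hodd q hqπ).2
    ((Nat.prime_dvd_prime_iff_eq hq Nat.prime_two).1 (ht ▸ hqd))
  have hc := h p hpπ (zpowers g) (IsPGroup.of_card (n := 1) (by rw [Nat.card_zpowers, hg, pow_one]))
    t htN htF
  have e : g * t = t * g := mem_centralizer_iff.1 hc g (mem_zpowers g)
  rw [← e, mul_inv_cancel_right] at htg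
  have h2 : g ^ 2 = 1 := by rw [pow_two]; nth_rw 2 [htg]; exact mul_inv_cancel g
  exact (hodd p hpπ).2 ((Nat.prime_dvd_prime_iff_eq hp Nat.prime_two).1
    (hg ▸ orderOf_dvd_of_pow_eq_one h2))

theorem exists_closed (hS : SuzukiList.{u}) {π : Set ℕ} (hodd : ∀ p ∈ π, p.Prime ∧ p ≠ 2) :
    ∀ (n : ℕ) (G : Type u) [Group G] [Finite G], Nat.card G = n → ¬ 3 ∣ Nat.card G → LocHom π G →
      ∃ K : Subgroup G, ∀ x : G, x ∈ K ↔ Free π x := by
  classical
  intro n
  induction n using Nat.strong_induction_on with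
  | _ n ih =>
  intro G _ _ hcard h3 h
  subst hcard
  rcases subsingleton_or_nontrivial G with hG | hG
  · exact ⟨⊤, fun x => ⟨fun _ => Subsingleton.elim 1 x ▸ Free.one, fun _ => mem_top x⟩⟩
  -- a minimal normal subgroup
  obtain ⟨N, ⟨hN1, hNn⟩, hmin⟩ := WellFounded.has_min (wellFounded_lt (α := Subgroup G))
    {N : Subgroup G | N ≠ ⊥ ∧ N.Normal} ⟨⊤, top_ne_bot, inferInstance⟩
  haveI := hNn
  have hmin' : ∀ M : Subgroup G, M.Normal → M ≤ N → M = ⊥ ∨ M = N := fun M hM hle => by
    rcases eq_or_ne M ⊥ with h0 | h0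
    · exact Or.inl h0
    · exact Or.inr (hle.eq_or_lt.resolve_right (hmin M ⟨h0, hM⟩))
  -- the elements of `N`
  have hcases : (∀ x ∈ N, Free π x) ∨
      ((∀ x ∈ N, ∀ q : ℕ, q.Prime → q ∣ orderOf x → q ∈ π) ∧ ∀ x ∈ N, ∀ y ∈ N, x * y = y * x) := by
    have hchar : ∀ (M : Subgroup ↥N) [M.Characteristic], M.map N.subtype = ⊥ ∨ M.map N.subtype = N :=
      fun M _ => hmin' _ ConjAct.normal_of_characteristic_of_normal (map_subtype_le M)
    by_cases hab : ∀ x ∈ N, ∀ y ∈ N, x * y = y * x
    · by_cases hπ : ∀ x ∈ N, Free π x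
      · exact Or.inl hπ
      refine Or.inr ⟨fun x hx q hq hqd => ?_, hab⟩
      obtain ⟨y, hy, hyπ⟩ : ∃ y ∈ N, ¬ Free π y := by simpa using hπ
      simp only [Free, not_forall, not_not] at hyπ
      obtain ⟨p, hp, hpd, hpπ⟩ := hyπ
      -- the `p`-part is characteristic
      haveI : Fact p.Prime := ⟨hp⟩
      obtain ⟨P⟩ : Nonempty (Sylow p ↥N) := inferInstance
      haveI : IsMulCommutative ↥N := ⟨⟨fun a b => Subtype.ext (hab a a.2 b b.2)⟩⟩
      haveI hPn : (P : Subgroup ↥N).Normal := inferInstance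
      haveI := P.characteristic_of_normal hPn
      have hPN : (P : Subgroup ↥N).map N.subtype = N := by
        refine (hchar (P : Subgroup ↥N)).resolve_left fun h0 => ?_
        rw [map_eq_bot_iff_of_injective _ N.subtype_injective] at h0
        exact P.ne_bot_of_dvd_card (hpd.trans ((orderOf_coe (⟨y, hy⟩ : N)).symm ▸
          orderOf_dvd_natCard (⟨y, hy⟩ : N))) h0
      have hpN : IsPGroup p ↥N := hPN ▸ P.isPGroup'.map _
      obtain ⟨k, hk⟩ := IsPGroup.iff_card.1 hpN
      have hqN : q ∣ p ^ k := hk ▸ hqd.trans ((orderOf_coe (⟨x, hx⟩ : N)).symm ▸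
        orderOf_dvd_natCard (⟨x, hx⟩ : N))
      rwa [(Nat.prime_dvd_prime_iff_eq hq hp).1 (hq.dvd_of_dvd_pow hqN)]
    · refine Or.inl ?_
      have h3N : ¬ 3 ∣ Nat.card ↥N := fun hd => h3 (hd.trans (card_subgroup_dvd_card N))
      haveI : Nontrivial ↥N := N.nontrivial_iff_ne_bot.2 hN1
      -- a simple quotient of `N`
      obtain ⟨M, ⟨hMt, hMn⟩, hMmax⟩ := WellFounded.has_min (wellFounded_gt (α := Subgroup ↥N))
        {M : Subgroup ↥N | M ≠ ⊤ ∧ M.Normal} ⟨⊥, bot_ne_top, inferInstance⟩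
      haveI := hMn
      haveI : Nontrivial (↥N ⧸ M) := QuotientGroup.nontrivial_iff.2 hMt
      have hsimple : IsSimpleGroup (↥N ⧸ M) := by
        refine ⟨fun X hX => ?_⟩
        rcases eq_or_ne (X.comap (QuotientGroup.mk' M)) ⊤ with h0 | h0
        · exact Or.inr (comap_injective (QuotientGroup.mk'_surjective M) (h0.trans (comap_top _).symm))
        · refine Or.inl ?_
          have hle : M ≤ X.comap (QuotientGroup.mk' M) := fun m hm => by
            rw [mem_comap, QuotientGroup.mk'_apply, (QuotientGroup.eq_one_iff m).2 hm]; exact one_mem X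
          have e := hle.eq_or_lt.resolve_right (hMmax _ ⟨h0, inferInstance⟩)
          exact comap_injective (QuotientGroup.mk'_surjective M)
            (by rw [← e, MonoidHom.comap_bot, QuotientGroup.ker_mk'])
      have hna : ¬ IsMulCommutative (↥N ⧸ M) := by
        intro hc
        have h1 : commutator ↥N ≤ M := by
          rw [← QuotientGroup.ker_mk' M, commutator_eq_closure, closure_le]
          rintro _ ⟨a, b, rfl⟩
          show QuotientGroup.mk' M _ = 1
          rw [map_commutatorElement, commutatorElement_eq_one_iff_mul_comm]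
          exact hc.is_comm.comm _ _
        rcases hchar (commutator ↥N) with h0 | h0
        · rw [map_eq_bot_iff_of_injective _ N.subtype_injective] at h0
          refine hab fun x hx y hy => ?_
          have h1 : ⁅(⟨x, hx⟩ : N), ⟨y, hy⟩⁆ ∈ commutator ↥N :=
            commutator_mem_commutator (mem_top _) (mem_top _)
          rw [h0, mem_bot, commutatorElement_eq_one_iff_mul_comm] at h1
          exact congrArg Subtype.val h1
        · refine hMt (top_le_iff.1 fun z _ => h1 ?_)
          obtain ⟨z', hz', e⟩ := (h0.symm ▸ z.2 : (z : G) ∈ (commutator ↥N).map N.subtype)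
          exact N.subtype_injective e ▸ hz'
      have hSz := hS (↥N ⧸ M) hsimple hna fun hd => h3N (hd.trans (Subgroup.card_quotient_dvd_card M))
      by_cases hlt : N = ⊤
      · have hsG : IsSimpleGroup G := ⟨fun X hX => (hmin' X hX (hlt ▸ le_top)).imp id fun e => e.trans hlt⟩
        have hnaG : ¬ IsMulCommutative G := fun hc => hab fun x _ y _ => hc.is_comm.comm x y
        exact fun x _ => free_of_suzuki hodd h (hS G hsG hnaG h3) x
      · obtain ⟨KN, hKN⟩ := ih (Nat.card ↥N) (by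
          refine lt_of_le_of_ne (Subgroup.card_le_card_group N) fun e => hlt ?_
          exact Subgroup.eq_top_of_card_eq N e) ↥N rfl h3N (h.subgroup N)
        haveI : KN.Characteristic := characteristic_iff_map_eq.2 fun φ => by
          ext x
          rw [mem_map_equiv, hKN, hKN, Free, Free, MulEquiv.orderOf_eq]
        rcases hchar KN with h0 | h0
        · rw [map_eq_bot_iff_of_injective _ N.subtype_injective] at h0
          haveI : Fact (Nat.Prime 2) := ⟨Nat.prime_two⟩
          obtain ⟨t, ht⟩ := exists_prime_orderOf_dvd_card' (G := ↥N) 2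
            ((two_dvd_card hSz).trans (Subgroup.card_quotient_dvd_card M))
          have : t ∈ KN := (hKN t).2 fun q hq hd hqπ => (hodd q hqπ).2
            ((Nat.prime_dvd_prime_iff_eq hq Nat.prime_two).1 (ht ▸ hd))
          rw [h0, mem_bot] at this
          rw [this, orderOf_one] at ht
          omega
        · intro x hx
          obtain ⟨z, hz, rfl⟩ := (h0.symm ▸ hx : x ∈ KN.map N.subtype)
          exact fun q hq hd => (hKN z).1 hz q hq (by rwa [Subgroup.coe_subtype, orderOf_coe] at hd)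
  -- the quotient
  obtain ⟨K₁, hK₁⟩ := ih (Nat.card (G ⧸ N)) (by
      have h1 := N.index_mul_card
      have h2 : 1 < Nat.card N := (one_lt_card_iff_ne_bot N).2 hN1
      have h4 : 0 < N.index := Nat.pos_of_ne_zero index_ne_zero_of_finite
      rw [← Subgroup.index_eq_card]
      calc N.index < N.index * Nat.card N := lt_mul_of_one_lt_right h4 h2
        _ = Nat.card G := h1)
    (G ⧸ N) rfl (fun hd => h3 (hd.trans (Subgroup.card_quotient_dvd_card N)))
    (h.quotient (fun p hp => (hodd p hp).1) N)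
  set K := K₁.comap (QuotientGroup.mk' N) with hKdef
  have hsub : ∀ x : G, Free π x → x ∈ K := fun x hx => (hK₁ _).2 (hx.map (QuotientGroup.mk' N))
  rcases hcases with hNfree | ⟨hNπ, hab⟩
  · refine ⟨K, fun x => ⟨fun hx p hp hd hpπ => ?_, hsub x⟩⟩
    have h1 : x ^ orderOf (QuotientGroup.mk' N x) ∈ N := by
      rw [← QuotientGroup.eq_one_iff, QuotientGroup.mk_pow]
      exact pow_orderOf_eq_one (QuotientGroup.mk' N x)
    have h2 : orderOf x ∣ orderOf (QuotientGroup.mk' N x) * orderOf (x ^ orderOf (QuotientGroup.mk' N x)) := by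
      rw [orderOf_dvd_iff_pow_eq_one, pow_mul, pow_orderOf_eq_one]
    rcases hp.dvd_mul.1 (hd.trans h2) with h3' | h3'
    · exact (hK₁ _).1 hx p hp h3' hpπ
    · exact hNfree _ h1 p hp h3' hpπ
  · -- `N` is a central `π`-subgroup of `K`
    let NK : Subgroup K := N.subgroupOf K
    have hNK : N ≤ K := fun x hx => by
      rw [hKdef, mem_comap, QuotientGroup.mk'_apply, (QuotientGroup.eq_one_iff x).2 hx]; exact one_mem _
    have hcardNK : Nat.card NK = Nat.card N := Nat.card_congr (subgroupOfEquivOfLe hNK).toEquiv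
    have hidx : NK.index = Nat.card K₁ := by
      have e1 := (N.subgroupOf K).index_mul_card
      have e2 : Nat.card K = Nat.card K₁ * Nat.card N := by
        have := relIndex_comap (f := QuotientGroup.mk' N) (⊥ : Subgroup (G ⧸ N)) K
        rw [MonoidHom.comap_bot, QuotientGroup.ker_mk', map_comap_eq_self_of_surjective
          (QuotientGroup.mk'_surjective N), relIndex_bot_left] at this
        rw [← this, ← card_mul_index (N.subgroupOf K), hcardNK, mul_comm]
        rfl
      rw [e2, hcardNK] at e1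
      exact Nat.eq_of_mul_eq_mul_right Nat.card_pos e1
    have hprimeN : ∀ q, q.Prime → q ∣ Nat.card N → q ∈ π := fun q hq hd => by
      haveI : Fact q.Prime := ⟨hq⟩
      obtain ⟨z, hz⟩ := exists_prime_orderOf_dvd_card' (G := ↥N) q hd
      exact hNπ z z.2 q hq (by rw [orderOf_coe, hz])
    have hprimeK : ∀ q, q.Prime → q ∣ Nat.card K₁ → q ∉ π := fun q hq hd => by
      haveI : Fact q.Prime := ⟨hq⟩
      obtain ⟨z, hz⟩ := exists_prime_orderOf_dvd_card' (G := ↥K₁) q hd
      exact (hK₁ z).1 z.2 q hq (by rw [orderOf_coe, hz])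
    have hcop : (Nat.card NK).Coprime NK.index := by
      rw [hcardNK, hidx]
      exact Nat.coprime_of_dvd fun q hq h1 h2 => hprimeK q hq h2 (hprimeN q hq h1)
    obtain ⟨Q, hQ⟩ := exists_right_complement'_of_coprime hcop
    have hQcard : Nat.card Q = Nat.card K₁ := by rw [← hidx, hQ.symm.index_eq_card]
    have hfreeQ : ∀ z ∈ Q, Free π (z : G) := fun z hz q hq hd => by
      have h1 := orderOf_dvd_natCard (⟨z, hz⟩ : Q)
      rw [← orderOf_coe] at h1
      rw [orderOf_coe] at hd
      exact hprimeK q hq (hQcard ▸ hd.trans h1)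
    have hcent : ∀ z : G, Free π z → ∀ x ∈ N, x * z = z * x := by
      intro z hz x hx
      rcases eq_or_ne x 1 with rfl | hx1
      · rw [one_mul, mul_one]
      obtain ⟨p, hp, hpd⟩ := Nat.exists_prime_and_dvd (mt orderOf_eq_one_iff.1 hx1)
      have hpN : IsPGroup p ↥N := by
        haveI : Fact p.Prime := ⟨hp⟩
        obtain ⟨P⟩ : Nonempty (Sylow p ↥N) := inferInstance
        haveI : IsMulCommutative ↥N := ⟨⟨fun a b => Subtype.ext (hab a a.2 b b.2)⟩⟩
        haveI hPn : (P : Subgroup ↥N).Normal := inferInstance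
        haveI := P.characteristic_of_normal hPn
        have h0 := (hmin' _ (ConjAct.normal_of_characteristic_of_normal
          (H := N) (K := (P : Subgroup ↥N))) (map_subtype_le _)).resolve_left fun h0 => by
          rw [map_eq_bot_iff_of_injective _ N.subtype_injective] at h0
          exact P.ne_bot_of_dvd_card (hpd.trans ((orderOf_coe (⟨x, hx⟩ : N)).symm ▸
            orderOf_dvd_natCard (⟨x, hx⟩ : N))) h0
        exact h0 ▸ P.isPGroup'.map _
      have hzN : z ∈ normalizer (N : Set G) := by rw [normalizer_eq_top]; exact mem_top z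
      exact mem_centralizer_iff.1 (h p (hNπ x hx p hp hpd) N hpN z hzN hz) x hx
    refine ⟨Q.map K.subtype, fun x => ⟨?_, fun hx => ?_⟩⟩
    · rintro ⟨z, hz, rfl⟩
      exact hfreeQ z hz
    · obtain ⟨⟨a, b⟩, hab'⟩ := hQ.2 (⟨x, hsub x hx⟩ : K)
      have e : ((a : K) : G) * ((b : K) : G) = x := congrArg Subtype.val hab'
      have haN : ((a : K) : G) ∈ N := mem_subgroupOf.1 a.2
      have hcm : Commute ((a : K) : G) ((b : K) : G) := hcent _ (hfreeQ b b.2) _ haN
      have ha1 : ((a : K) : G) = 1 := by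
        refine eq_one_of_free (π := π) (n := Nat.card N)
          (by
          have h1 := congrArg Subtype.val (pow_card_eq_one' (x := (⟨_, haN⟩ : N)))
          rwa [coe_pow, coe_one] at h1) hprimeN ?_
        intro q hq hd hqπ
        have hxq : q ∣ orderOf x := by
          rw [← e, hcm.orderOf_mul_eq_mul_orderOf_of_coprime (Nat.coprime_of_dvd fun r hr h1 h2 =>
            hfreeQ b b.2 r hr h2 (hNπ _ haN r hr h1))]
          exact dvd_mul_of_dvd_left hd _
        exact hx q hq hxq hqπ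
      exact ⟨b, b.2, by rw [← e, ha1, one_mul]; rfl⟩

end Cfsg.Agent.H50.ThreePrime
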