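import Cfsg.Agent.H50.ThreePrime.Homog
import Cfsg.Agent.H50.ThreePrime.Component
import Cfsg.Agent.H91.FourFree.Suzuki
import Cfsg.Agent.H10.Walter.Final

/-!
# S2976 and S4045 modulo the theorem on strongly closed abelian 2-subgroups
-/

set_option autoImplicit false

namespace Cfsg.Agent.H50.ThreePrime

universe u

/-- The list follows from the theorem on strongly closed abelian 2-subgroups. -/
theorem suzukiList (hWA : H36.TwoIrrational.StronglyClosedAbelianHyp.{u}) : SuzukiList.{u} := by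
  intro X _ _ hX hna h3
  haveI := hX
  exact H91.FourFree.isoSuzuki_of_three_prime hWA H10.Walter.walterHyp hna h3

/-- The statement of S4045. -/
theorem closed_of_homogeneous (hWA : H36.TwoIrrational.StronglyClosedAbelianHyp.{u})
    {G : Type u} [Group G] [Finite G] (π : Set ℕ)
    (hodd : ∀ p ∈ π, p.Prime ∧ p ≠ 2) (h3 : ¬ 3 ∣ Nat.card G)
    (hhom : (∀ H : Subgroup G, H ≠ ⊥ → (∀ p : ℕ, p.Prime → p ∣ Nat.card ↥H → p ∈ π) →
        ∀ p : ℕ, p.Prime → p ∣ (Subgroup.centralizer (H : Set G)).relIndex (Subgroup.normalizer (H : Set G)) → p ∈ π)) :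
    ∃ K : Subgroup G, ∀ x : G, x ∈ K ↔ ∀ p : ℕ, p.Prime → p ∣ orderOf x → p ∉ π :=
  exists_closed (suzukiList hWA) hodd (Nat.card G) G rfl h3
    (locHom_of_hom (fun p hp => (hodd p hp).1) hhom)

/-- The statement of S2976. -/
theorem component_of_three (hWA : H36.TwoIrrational.StronglyClosedAbelianHyp.{u})
    {G : Type u} [Group G] [Finite G] (K : Subgroup G) (hK : Cfsg.IsComponent K)
    (h3 : ¬ 3 ∣ Nat.card ↥K) (y : G) (hy : orderOf y = 3)
    (hsol : Group.IsSolvable ↥(Subgroup.centralizer ({y} : Set G))) :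
    (∃ (F : Type) (_ : Field F) (_ : Fintype F), Fintype.card F = 8 ∧
      Nonempty (↥K ⧸ Subgroup.center ↥K ≃* ↥(Cfsg.Lie.Sz F 4))) ∧
      y ∈ Subgroup.normalizer (K : Set G) ∧ (Cfsg.pCore 2 G = ⊥ → IsSimpleGroup ↥K) :=
  result_of_list (suzukiList hWA) hK h3 hy hsol

end Cfsg.Agent.H50.ThreePrime
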